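import Cfsg.Agent.Lib.McLStab.Data
import Cfsg.Agent.Lib.Cores.Codes
import Cfsg.Agent.Lib.LeechP.McL2

/-!
# A point stabiliser in `McL` acting on 275 points

The group generated by two words fixes the point `0`, and `McL` is transitive on the points.  Given the order of the
group, it is the stabiliser.
-/

set_option autoImplicit false
set_option maxRecDepth 100000

namespace Cfsg.Agent.Lib.McLStab

open Cfsg Subgroup
open _root_.Cfsg.Agent.Lib.PermComp
open _root_.Cfsg.Agent.Lib.PermComp.Core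
open Cfsg.Agent.Lib.McLStab.Data Cfsg.Agent.Lib.Cores Cfsg.Agent.Lib.LeechP.McL

local notation "RR" => Rep 9 511 (Equiv.refl (Fin 275))

/-- The stabiliser, as a group generated by codes. -/
noncomputable abbrev H1 : Subgroup (Equiv.Perm (Fin 275)) := H 9 511 (Equiv.refl (Fin 275)) h_gens

theorem gens_words : h_gens = [h_w1, h_w2].map wc := by
  decide +kernel

theorem gens_rep : ∀ c ∈ h_gens, ∃ g ∈ PP, RR c g :=
  rep_of_words gens_words (by decide +kernel)

theorem H1_le : H1 ≤ PP := by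
  apply (Subgroup.closure_le _).2
  rintro g ⟨c, hc, hg⟩
  obtain ⟨g', hg', hr⟩ := gens_rep c hc
  rw [hg.unique hr]
  exact hg'

theorem gens_fix : allL (fun c => Nat.beq (app 9 511 c 0) 0) h_gens = true := by
  decide +kernel

theorem H1_fix : ∀ h ∈ H1, h 0 = 0 := by
  have h1 : H1 ≤ MulAction.stabilizer (Equiv.Perm (Fin 275)) (0 : Fin 275) := by
    apply (Subgroup.closure_le _).2
    rintro g ⟨c, hc, hg⟩
    have h2 := Nat.eq_of_beq_eq_true ((allL_eq_true _ _).1 gens_fix c hc)
    have h3 : app 9 511 c 0 = ((g 0 : Fin 275) : ℕ) := hg 0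
    rw [h2] at h3
    exact Fin.ext h3.symm
  exact fun h hh => h1 hh

theorem TT_words : c_TT = c_Wt.map wc := by
  decide +kernel

theorem TT_rep : ∀ c ∈ c_TT, ∃ g ∈ PP, RR c g :=
  rep_of_words TT_words (by decide +kernel)

theorem TT_len : c_TT.length = 275 := by
  decide +kernel

theorem TT_zero : allL (fun x => Nat.beq (app 9 511 (nthN c_TT x) 0) x) (List.range 275) = true := by
  decide +kernel

/-- The transversal. -/
theorem hTT : ∀ x : Fin 275, ∃ g ∈ PP, RR (nthN c_TT x) g ∧ g 0 = x := by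
  intro x
  obtain ⟨g, hg, hr⟩ := TT_rep _ (nthN_mem c_TT x.1 (by rw [TT_len]; exact x.2))
  refine ⟨g, hg, hr, ?_⟩
  have h2 := Nat.eq_of_beq_eq_true ((allL_eq_true _ _).1 TT_zero x.1 (List.mem_range.2 x.2))
  have h3 : app 9 511 (nthN c_TT x) 0 = ((g 0 : Fin 275) : ℕ) := hr 0
  rw [h2] at h3
  exact Fin.ext h3.symm

/-- A group of the right order is the stabiliser. -/
theorem hstab_of_card (h : Nat.card H1 = 3265920) : ∀ g ∈ PP, g 0 = 0 → g ∈ H1 := by
  refine stab_le PP H1 H1_le 0 H1_fix (fun x => ?_) ?_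
  · obtain ⟨g, hg, -, h'⟩ := hTT x
    exact ⟨g, hg, h'⟩
  · rw [card_PP, h, Nat.card_eq_fintype_card, Fintype.card_fin]

end Cfsg.Agent.Lib.McLStab
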